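import Groth.Agent.EtZarCmp.Basic
import Groth.Agent.EtaleSite.AmitsurAcyclic
import Groth.Agent.EtaleSite.AmitsurGamma
import Groth.Agent.Desc44.QCohDescent.EtaleSheaf
import Groth.Agent.LimTop.PullSec
import Groth.Prelude.Def_EtAssoc2

/-!
# The sheaf associated to a quasi-coherent module on the small étale site has exact Amitsur complexes
-/

set_option autoImplicit false
set_option backward.isDefEq.respectTransparency false
set_option backward.isDefEq.respectTransparency.types false
set_option linter.style.haveILetI false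

universe u

open CategoryTheory CategoryTheory.Limits AlgebraicGeometry Opposite
open CategoryTheory.Abelian (Ext)
open scoped TensorProduct

noncomputable section

namespace Groth.Agent.EtZarQCoh87

open Groth.Agent.EtaleSite.Amitsur Groth.Agent.AdeqAmitsur

variable {X : Scheme.{u}} (F : X.Modules)

/-- Sections of the pulled back module. -/
abbrev sec (E : X.Etale) : Type u := Γ((Scheme.Modules.pullback E.hom).obj F, ⊤)

/-- Restriction. -/
def rs {E E' : X.Etale} (g : E' ⟶ E) : sec F E →+ sec F E' := (EtAssoc.resMap F g).hom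

/-- The comparison of pullbacks. -/
abbrev cmpMap {E E' : X.Etale} (g : E' ⟶ E) :
    (Scheme.Modules.pullback g.left).obj ((Scheme.Modules.pullback E.hom).obj F) ⟶
      (Scheme.Modules.pullback E'.hom).obj F :=
  EtAssoc.step2a F g

instance isIso_cmpMap {E E' : X.Etale} (g : E' ⟶ E) : IsIso (cmpMap F g) := by
  unfold cmpMap EtAssoc.step2a
  infer_instance

theorem rs_eq {E E' : X.Etale} (g : E' ⟶ E) (h : (⊤ : E'.left.Opens) ≤ g.left ⁻¹ᵁ ⊤) (m : sec F E) :
    rs F g m = (cmpMap F g).app ⊤ (LimTop.unitSec g.left ((Scheme.Modules.pullback E.hom).obj F) h m) := rfl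

theorem rs_smul {E E' : X.Etale} (g : E' ⟶ E) (r : gr E) (m : sec F E) :
    rs F g (r • m) = gm g r • rs F g m := by
  have h : (⊤ : E'.left.Opens) ≤ g.left ⁻¹ᵁ ⊤ := fun _ _ => trivial
  rw [rs_eq F g h, rs_eq F g h, LimTop.unitSec_smul, Scheme.Modules.Hom.app_smul]
  congr 2
  rw [Scheme.Hom.appLE]
  simp

theorem rs_comp {E E' E'' : X.Etale} (g : E' ⟶ E) (h : E'' ⟶ E') (m : sec F E) :
    rs F (h ≫ g) m = rs F h (rs F g m) :=
  Desc44.QCohDescent.resMap_comp F h g m

section Affine

variable {E : X.Etale}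

/-- Tensors to sections. -/
def toSec (W : Over E) : gr W.left ⊗[gr E] ULift.{u + 1} (sec F E) →+ sec F W.left :=
  TensorProduct.liftAddHom
    (AddMonoidHom.mk' (fun a => AddMonoidHom.mk' (fun n => a • rs F W.hom n.down)
        (fun n n' => by rw [ULift.add_down, map_add, smul_add]))
      (fun a a' => AddMonoidHom.ext fun n => add_smul a a' (rs F W.hom n.down)))
    (fun r a n => by
      show (gm W.hom r * a) • rs F W.hom n.down = a • rs F W.hom (r • n).down
      rw [ULift.smul_down, rs_smul, smul_smul, mul_comm])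

theorem toSec_tmul (W : Over E) (a : gr W.left) (n : ULift.{u + 1} (sec F E)) :
    toSec F W (a ⊗ₜ n) = a • rs F W.hom n.down := TensorProduct.liftAddHom_tmul _ _ _ _

theorem toSec_natural {W W' : Over E} (f : W' ⟶ W) (z : gr W.left ⊗[gr E] ULift.{u + 1} (sec F E)) :
    toSec F W' (tr _ f z) = rs F f.left (toSec F W z) := by
  induction z using TensorProduct.induction_on with
  | zero => simp
  | add a b ha hb => simp only [map_add, ha, hb]
  | tmul a n =>
    show toSec F W' (gm f.left a ⊗ₜ n) = _
    rw [toSec_tmul, toSec_tmul, rs_smul, ← rs_comp, Over.w]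

theorem toSec_bijective [F.IsQuasicoherent] [IsAffine E.left] (W : Over E) [IsAffine W.left.left] :
    Function.Bijective (toSec F W) := by
  let g := W.hom.left
  let M := (Scheme.Modules.pullback E.hom).obj F
  have : M.IsQuasicoherent := QCoh.isQuasicoherent_pullback E.hom F
  have h : (⊤ : W.left.left.Opens) ≤ g ⁻¹ᵁ ⊤ := fun _ _ => trivial
  have halg : (g.appLE ⊤ ⊤ h).hom = gm W.hom := by
    rw [Scheme.Hom.appLE]
    ext r
    simp
    rfl
  letI := LimTop.secModule g M h
  letI : Algebra (gr E) (gr W.left) := (g.appLE ⊤ ⊤ h).hom.toAlgebra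
  haveI : IsScalarTower Γ(E.left, ⊤) Γ(W.left.left, ⊤) Γ((Scheme.Modules.pullback g).obj M, ⊤) :=
    IsScalarTower.of_algebraMap_smul fun _ _ => rfl
  have hbc := LimTop.isBaseChange_unitSec g M h (isAffineOpen_top E.left) (isAffineOpen_top W.left.left)
  let θ : Γ((Scheme.Modules.pullback g).obj M, ⊤) → sec F W.left := fun z => (cmpMap F W.hom).app ⊤ z
  have hθ : Function.Bijective θ := ConcreteCategory.bijective_of_isIso ((cmpMap F W.hom).app ⊤)
  have ealg : (algOver W : Algebra (gr E) (gr W.left)) = (g.appLE ⊤ ⊤ h).hom.toAlgebra :=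
    Algebra.algebra_ext _ _ fun r => (congr($halg r)).symm
  have key : ∀ (A : Algebra (gr E) (gr W.left)) (hA : A = algOver W)
      , letI := A
      ∀ φ : gr W.left ⊗[gr E] ULift.{u + 1} (sec F E) →+ sec F W.left,
      (∀ a n, φ (a ⊗ₜ n) = a • rs F W.hom n.down) → Function.Bijective φ → Function.Bijective (toSec F W) := by
    intro A hA
    subst hA
    intro φ hφ hb
    have : φ = toSec F W := by
      refine AddMonoidHom.ext fun z => ?_
      induction z using TensorProduct.induction_on with
      | zero => simp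
      | add a b ha hb => simp only [map_add, ha, hb]
      | tmul a n => rw [hφ, toSec_tmul]
    rwa [← this]
  let φ : gr W.left ⊗[gr E] ULift.{u + 1} (sec F E) →+ sec F W.left :=
    ((AddMonoidHom.mk' θ fun a b => map_add ((cmpMap F W.hom).app ⊤).hom a b).comp
      hbc.equiv.toLinearMap.toAddMonoidHom).comp
      (TensorProduct.congr (LinearEquiv.refl (gr E) (gr W.left)) ULift.moduleEquiv).toLinearMap.toAddMonoidHom
  refine key _ ealg.symm φ (fun a n => ?_) ((hθ.comp hbc.equiv.bijective).comp
    (TensorProduct.congr (LinearEquiv.refl (gr E) (gr W.left)) ULift.moduleEquiv).bijective)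
  show θ (hbc.equiv (a ⊗ₜ n.down)) = _
  rw [IsBaseChange.equiv_tmul]
  show (cmpMap F W.hom).app ⊤ (a • LimTop.unitSec g M h n.down) = _
  rw [Scheme.Modules.Hom.app_smul]
  rfl

end Affine

/-- The associated sheaf has exact Amitsur complexes. -/
theorem cech_assoc [F.IsQuasicoherent] (G : EtCoh.Ab X) (hG : EtAssoc.IsAssoc F G) : Cech G := by
  obtain ⟨e, he⟩ := hG
  intro E _ U _ hU m c hc
  let Φ : tens (E := E) (ULift.{u + 1} (sec F E)) ⟶ secPre E G.obj :=
    { app := fun W => AddCommGrpCat.ofHom
        ((e W.unop.left).symm.toAddMonoidHom.comp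
          ((AddEquiv.ulift.symm : sec F W.unop.left ≃+ ULift.{u + 1} (sec F W.unop.left)).toAddMonoidHom.comp
            (toSec F W.unop)))
      naturality := fun W W' f => AddCommGrpCat.ext fun z => by
        refine (e W'.unop.left).injective ?_
        show e W'.unop.left ((e W'.unop.left).symm _) = e W'.unop.left (G.obj.map f.unop.left.op ((e W.unop.left).symm _))
        rw [AddEquiv.apply_symm_apply]
        refine ULift.ext _ _ ?_
        rw [he, AddEquiv.apply_symm_apply]
        exact toSec_natural F f.unop z }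
  have hbij : ∀ k, Function.Bijective (Φ.app (op (O U k))).hom := fun k => by
    have := isAffine_O U k
    exact (e _).symm.bijective.comp
      ((AddEquiv.ulift.symm : sec F (O U k).left ≃+ ULift.{u + 1} (sec F (O U k).left)).bijective.comp
        (toSec_bijective F (O U k)))
  obtain ⟨a, rfl⟩ := (hbij _).2 c
  obtain ⟨b, hb⟩ := exactD_tens U hU m (ULift.{u + 1} (sec F E)) a
    ((hbij _).1 (by rw [D_nat, hc, map_zero]))
  exact ⟨(Φ.app _).hom b, by rw [← D_nat, hb]⟩

/-- Exact Amitsur complexes give vanishing on affine objects. -/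
theorem affVan_of_cech (G : EtCoh.Ab X) (hG : Cech G) : EtZarCmp.AffVan G := by
  intro W hW q hq
  obtain ⟨n, rfl⟩ : ∃ n, q = n + 1 := ⟨q - 1, by omega⟩
  clear hq
  induction n generalizing G with
  | zero =>
    refine subsingleton_of_forall_eq 0 fun x => ?_
    have hC := SiteCoh.DimShift.inj_shortExact G
    obtain ⟨y, rfl⟩ := Ext.covariant_sequence_exact₁ _ hC x (Ext.eq_zero_of_injective _) (rfl : 0 + 1 = 1)
    obtain ⟨φ, rfl⟩ := (Ext.mk₀_bijective _ _).2 y
    obtain ⟨s, hs⟩ := sections_surjective _ hC hG W (EtaleSite.Flasque.freeSec W _ φ)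
    obtain ⟨ψ, rfl⟩ := (EtaleSite.Flasque.freeSec_bijective W _).2 s
    have hψ : ψ ≫ (SiteCoh.DimShift.inj G).g = φ :=
      (EtaleSite.Flasque.freeSec_bijective W _).1 ((EtaleSite.Flasque.freeSec_comp W ψ _).trans hs)
    rw [← hψ, ← Ext.mk₀_comp_mk₀, Ext.comp_assoc_of_second_deg_zero, hC.comp_extClass, Ext.comp_zero]
  | succ n ih =>
    have hC := SiteCoh.DimShift.inj_shortExact G
    have := ih _ (cech_X₃ _ hC hG)
    refine subsingleton_of_forall_eq 0 fun x => ?_
    obtain ⟨y, rfl⟩ := Ext.covariant_sequence_exact₁ _ hC x (Ext.eq_zero_of_injective _)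
      (rfl : n + 1 + 1 = n + 1 + 1)
    rw [Subsingleton.elim y 0, Ext.zero_comp]

end Groth.Agent.EtZarQCoh87
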